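import Cfsg.Agent.SPOR.BE.La
import Cfsg.Agent.INV.STD.Co0Inv

/-!
Involutions of `Co₂` on the Leech lattice modulo two.
-/

set_option autoImplicit false

namespace CL.BE

open Cfsg CL.Leech CL.MT CL.MO CL.MP CL.MU Spor Subgroup

variable {k : Co0} {u v : leechLattice}

open La
open CL.Golay (E)
open scoped Pointwise

theorem Lb.tr (l s : Co0) (x : leechLattice) : (l * s * l⁻¹) • l • x = l • s • x := by simp [mul_smul]

open Lb

theorem Lb.cong_smul (l : Co0) {a b : leechLattice} : Cong (l • a) (l • b) ↔ Cong a b :=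
  ⟨fun h => by simpa using h.smul l⁻¹, fun h => h.smul l⟩

theorem Lb.perm_conj (σ : M24) (c : Golay.Code) :
    permHom σ * sgn c * (permHom σ)⁻¹ = sgn (StdCo.cs σ c) := StdCo.conj_sgn σ StdCo.c0 c

/-- a matrix which intertwines two sign changes -/
theorem Lb.conj_of {g : Co0} {f : ℕ → ℕ} (hg : RepF g f) {c c' : Golay.Code} {m m' : ℕ}
    (hc : c.1 = E.setOf m) (hc' : c'.1 = E.setOf m')
    (h : ∀ i < 24, ∀ p < 24, Pack.dg (f (c8 i)) p = 8 ∨ m.testBit i = m'.testBit p) :
    g * sgn c * g⁻¹ = sgn c' := by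
  rw [mul_inv_eq_iff_eq_mul]
  refine co_ext_e8 fun i => Subtype.ext (funext fun p => ?_)
  have h8 : sqNorm (e8 i).1 ≤ 80 := by rw [sqNorm_e8]; norm_num
  have h1 := congrFun (vec_enc (bd_of_sqNorm (x := (g • e8 i).1) (by rwa [sqNorm_smul]))) p
  rw [← hg _ h8, enc_e8, vec] at h1
  rw [mul_smul, mul_smul, Co1T.sgn_e8, sgn_apply, hc, hc', apply_ite (g • ·), smul_neg]
  simp only [E.mem_setOf]
  obtain e | e := h _ (E.enc_lt i) _ (E.enc_lt p)
  · rw [e] at h1
    split_ifs <;> simp [← h1]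
  · rw [e]
    split_ifs <;> rfl

/-- moves `2 · 1_S` to `(4, 4)` and normalises two sign changes -/
def Lb.cX : ℕ := 0x6210862188621084210842108421084210842104411084210c42188421084208c4210842108421084210823108421084210842108221082310c4210842184421084210842108421082310843108421084210443088421084210842108431084218842108421084208462108620882210842108421084210822108621882210842108421084210841108421084210443188421084210841108421084210c430884210842108421084210c411084210c4208842108421084210842108621082110c4210842108411084218842108421084208c420844210842108421084210821108421084210842108221086110c421084110842108421044108842108421084210842104411084210442088421084210842104431084210c420884210862108221882210842108421084210842108431084208842108421084208c42108421084210822108211044210842084421084210842108421086310842108431084218842108421084218c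

/-- `StdCo.exists_conj_Sgn` gives `sgn C`, and `v` is supported off `C`. If `v = (±2^8)` on an
octad `S`, then `C` is empty, an octad disjoint from `S`, or the complement of `S`; take a sextet
such that `S` and `C` are unions of tetrads, change signs so that `v` has one minus sign in each
tetrad and apply the element `ξ` of the sextet (it commutes with `sgn C`). Then `v = (±4, ±4)`. -/
theorem exists_std2 (h : k * k = 1) (hv : Sht v) (kv : k • v = v) :
    ∃ (l : Co0) (C : Golay.Code), l • v = leechU ∧ l * k * l⁻¹ = sgn C := by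
  obtain ⟨l, hl⟩ := StdCo.exists_conj_Sgn h
  have hn := hv.smul l
  have key : ∀ x : leechLattice, l • v ∈ MulAction.orbit NN x → (∀ c : Golay.Code, sgn c • x = x →
      ∃ (l : Co0) (C : Golay.Code), l • x = leechU ∧ l * sgn c * l⁻¹ = sgn C) →
      ∃ (l : Co0) (C : Golay.Code), l • v = leechU ∧ l * k * l⁻¹ = sgn C := fun x ⟨n, hn⟩ hx => by
    obtain ⟨c, e⟩ := exists_sgn (frame_NN.norm _ (inv_mem n.2) _ hl)
    have e1 : x = (n.1⁻¹ * l) • v := by rw [mul_smul, eq_inv_smul_iff]; exact hn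
    have e2 : sgn c = n.1⁻¹ * l * k * (n.1⁻¹ * l)⁻¹ := by rw [← e]; group
    obtain ⟨l', C, a, b⟩ := hx c (by rw [e1, e2, tr, kv])
    exact ⟨l' * (n.1⁻¹ * l), C, by rw [mul_smul, ← e1, a], by rw [← b, e2]; group⟩
  have triv : ∀ (x : leechLattice) (c : Golay.Code), Sht x → c.1 = ∅ →
      ∃ (l : Co0) (C : Golay.Code), l • x = leechU ∧ l * sgn c * l⁻¹ = sgn C := fun x c hx e => by
    obtain ⟨g, hg⟩ := min_trans hx sqNorm_U
    exact ⟨g, c, hg, by rw [(Subtype.ext e : c = StdCo.c0), StdCo.sgn_c0]; group⟩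
  have nz : ∀ {x : leechLattice} {c : Golay.Code}, sgn c • x = x → ∀ i ∈ c.1, x.1 i = 0 := fun {x c} e i hi => by
    have := sgn_apply c x i
    rw [e, if_pos hi] at this
    omega
  rcases shape hn with ⟨e, -⟩ | ⟨e, -⟩ | ⟨e, -⟩ <;> refine key _ e fun c hc => ?_
  · exact ⟨1, c, one_smul _ _, by group⟩
  swap
  · refine triv _ c (by decide +kernel) (Finset.eq_empty_of_forall_notMem fun i hi => ?_)
    exact absurd (nz hc i hi) ((by decide +kernel : ∀ i, (nv 2).1 i ≠ 0) i)
  have hS : E.setOf 9347075 ∈ octads := Golay.setOf_mem_of_isOct (by decide +kernel)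
  have e1 : ∀ i, (nv 1).1 i = if i ∈ E.setOf 9347075 then 2 else 0 := by decide +kernel
  have hd : c.1 ⊆ (E.setOf 9347075)ᶜ := fun i hi => Finset.mem_compl.2 fun hi' => by
    have := nz hc i hi
    rw [e1, if_pos hi'] at this
    omega
  have hx := rep_aut (c := cX) (by decide +kernel)
  have hU : aut cX • nv 1 = leechU := by
    simpa using (hx.smul_eq_iff RepF.one (x := nv 1) (y := leechU) (by decide +kernel) le_U).2
      (by decide +kernel)
  have h16 : (E.setOf 9347075)ᶜ.card = 16 := by decide +kernel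
  have := Finset.card_le_card hd
  rcases Golay.card_of_mem_code c.2 with e | e | e | e | e
  · exact triv _ c (by decide +kernel) (Finset.card_eq_zero.1 e)
  · obtain ⟨σ, hσ, s1, s2⟩ := Golay.exists_smul_octad_pair hS (o' := c.1) (o'' := E.setOf 84464) ⟨c.2, e⟩
      (Golay.setOf_mem_of_isOct (by decide +kernel)) (by
        rw [Finset.disjoint_iff_inter_eq_empty.1 (Finset.subset_compl_iff_disjoint_left.1 hd)]
        decide +kernel)
    refine ⟨aut cX * permHom ⟨σ, hσ⟩, ⟨_, Golay.setOf_mem_of_isCw (n := 5249380) (by decide +kernel)⟩, ?_, ?_⟩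
    · rw [mul_smul, permHom_fix, hU]
      intro i
      have := Golay.mem_smul_iff σ i (E.setOf 9347075)
      rw [s1] at this
      rw [e1, e1]
      exact if_congr this rfl rfl
    · refine Eq.trans ?_ (conj_of hx (c := StdCo.cs ⟨σ, hσ⟩ c) s2 rfl (by decide +kernel))
      rw [← perm_conj]
      group
  · have := Golay.card_of_mem_code (Golay.symmDiff_mem_code (Golay.compl_mem_code hS.1) c.2)
    rw [symmDiff_of_ge hd, Finset.card_sdiff_of_subset hd] at this
    omega
  · exact ⟨_, ⟨_, Golay.setOf_mem_of_isCw (n := 8158182) (by decide +kernel)⟩, hU,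
      conj_of hx (m := 7430140) ((Finset.eq_of_subset_of_card_le hd (by omega)).trans (by decide +kernel))
        rfl (by decide +kernel)⟩
  · omega

theorem Lb.code4 (C : Golay.Code) (h1 : none ∉ C.1) (h2 : some 0 ∉ C.1) :
    ∃ σ : M24, permHom σ • leechU = leechU ∧ ∃ D : Golay.Code, C = StdCo.cs σ D ∧
      ∃ m ∈ [0, 21116, 114548, 2060276], D.1 = E.setOf m := by
  have d := Golay.decomp_code Golay.g22_in Golay.M22_eq (F := Golay.Code) (fun _ h => h)
    (fun y hy x hx => (Golay.smul_mem_code hy.1.1).2 hx)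
    (reps := [(0, 1), (15777, 176), (21116, 330), (28637, 672), (114548, 616), (515069, 176),
      (2060276, 77), (8391797, 77), (8401364, 176), (8452849, 616), (8510684, 672), (9154301, 330),
      (9436524, 176), (16777215, 1)])
    (fun cn h => ⟨by revert cn; decide, Golay.setOf_mem_of_isCw (by revert cn; decide +kernel)⟩)
    (Golay.ncard_code.trans_le (by decide)) (by decide +kernel)
  obtain ⟨r, hr, ⟨g, ⟨hg, g1⟩, g2⟩, e⟩ := (d.2 C.1).1 C.2
  have h0 := (d.1 r hr).1
  obtain ⟨cn, hc, rfl⟩ := List.mem_map.1 hr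
  change g none = none at g1
  change g (some 0) = some 0 at g2
  refine ⟨⟨g, hg⟩, permHom_fix _ fun p => ?_, ⟨_, h0⟩, Subtype.ext e.symm, cn.1, ?_, rfl⟩
  · refine if_congr ?_ rfl rfl
    rw [← g1, ← g2, g.apply_eq_iff_eq, g.apply_eq_iff_eq, g1, g2]
  · change g • E.setOf cn.1 = C.1 at e
    rw [← e, ← g1] at h1
    rw [← e, ← g2] at h2
    have a := (Golay.mem_smul_iff g none _).not.1 h1
    have b := (Golay.mem_smul_iff g (some 0) _).not.1 h2
    clear hr h0 e h1 h2
    revert cn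
    decide +kernel

/-- four standard forms -/
theorem Lb.std4 (h : k * k = 1) (hv : Sht v) (kv : k • v = v) :
    ∃ (l : Co0) (C : Golay.Code), v = l • leechU ∧ k = l * sgn C * l⁻¹ ∧
      ∃ m ∈ [0, 21116, 114548, 2060276], C.1 = E.setOf m := by
  obtain ⟨l, C, e1, e2⟩ := exists_std2 h hv kv
  have e : sgn C • leechU = leechU := by rw [← e1, ← e2, tr, kv]
  have nz : ∀ i, vecU i = 4 → i ∉ C.1 := fun i a hi => by
    have := sgn_apply C leechU i
    rw [e, if_pos hi] at this
    change vecU i = -vecU i at this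
    omega
  obtain ⟨σ, s1, D, rfl, hm⟩ := code4 C (nz _ rfl) (nz _ rfl)
  refine ⟨l⁻¹ * permHom σ, D, by rw [mul_smul, s1, ← e1, inv_smul_smul], ?_, hm⟩
  rw [← perm_conj] at e2
  rw [mul_inv_rev, inv_inv, ← mul_assoc, mul_assoc l⁻¹, mul_assoc l⁻¹, ← e2]
  group

/-- sign change on a mask -/
def Lb.sg (m : ℕ) (x : GolayPt → ℤ) : GolayPt → ℤ := fun p => if m.testBit (E.enc p) then -x p else x p

theorem Lb.coe_sgn {C : Golay.Code} {m : ℕ} (e : C.1 = E.setOf m) (x : leechLattice) :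
    (sgn C • x).1 = sg m x.1 := funext fun p => by
  rw [sgn_apply, e]
  simp only [E.mem_setOf, sg]

/-- `(4_∞, 4_l)` with `l ∉ C`. -/
theorem exists_pt_fix (h : k * k = 1) (hv : Sht v) (kv : k • v = v) :
    ∃ r, Sht r ∧ dt r v = 16 ∧ k • r = r := by
  obtain ⟨l, C, rfl, rfl, m, hm, e⟩ := std4 h hv kv
  refine ⟨l • rB, Sht.smul (by decide +kernel) l, (dt_smul ..).trans (by unfold dt; decide +kernel), ?_⟩
  rw [tr]
  refine congrArg _ (Subtype.ext ((coe_sgn e rB).trans ?_))
  clear e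
  revert m
  decide +kernel

/-- twice a code word -/
def Lb.ov (m : ℕ) (h : Golay.isCw m = true := by decide +kernel) : leechLattice :=
  ⟨fun p => if m.testBit (E.enc p) then 2 else 0, by
    convert two_lift_mem ((mem_supports_iff _).1 (Golay.setOf_mem_of_isCw h)) using 1
    funext p
    simp only [lift, ind, E.mem_setOf, Pi.smul_apply]
    split_ifs <;> simp_all⟩

theorem Lb.nm_add_dvd (h : k * k = 1) {x y : leechLattice} (hx : (32 : ℤ) ∣ sqNorm (x + k • x).1)
    (hy : (32 : ℤ) ∣ sqNorm (y + k • y).1) : (32 : ℤ) ∣ sqNorm (x + y + k • (x + y)).1 := by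
  have : Ort (x + k • x) (y + k • y) := by
    rw [add_ort, ← ort_smul k (k • x), ← mul_smul, h, one_smul, smul_add, ← mul_smul, h, one_smul,
      add_comm (k • y)]
  rw [smul_add, add_add_add_comm, AddSubgroup.coe_add, sqNorm_add]
  omega

theorem Lb.exists_az (h : k * k = 1) (hk : k ∉ center Co0) (hv : Sht v) (kv : k • v = v) :
    ∃ a z : Fin 4 → leechLattice, (∀ i, Ort v (a i) ∧ (32 : ℤ) ∣ sqNorm (a i + k • a i).1 ∧ Ort v (z i)) ∧
      ∀ i j, Ort (a i + k • a i) (z j) ↔ i ≠ j := by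
  obtain ⟨l, C, rfl, rfl, m, hm, e⟩ := std4 h hv kv
  suffices ∃ a z : Fin 4 → leechLattice, (∀ i, Ort leechU (a i) ∧
      (32 : ℤ) ∣ sqNorm ((a i).1 + sg m (a i).1) ∧ Ort leechU (z i)) ∧
      ∀ i j, (16 : ℤ) ∣ dotInt ((a i).1 + sg m (a i).1) (z j).1 ↔ i ≠ j by
    obtain ⟨a, z, h⟩ := this
    refine ⟨fun i => l • a i, fun i => l • z i, ?_⟩
    simpa only [tr, ← smul_add, Ort, dot_smul, sqNorm_smul, AddSubgroup.coe_add, coe_sgn e] using h
  simp only [List.mem_cons, List.not_mem_nil, or_false] at hm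
  rcases hm with rfl | rfl | rfl | rfl
  · rw [(Subtype.ext (e.trans E.setOf_zero) : C = StdCo.c0), StdCo.sgn_c0] at hk
    exact absurd (by simp) hk
  · exact ⟨![ov 4261212, ov 3610628, ov 396116, ov 4361520], ![ov 277580, ov 1769924, ov 1164162, ov 5621792],
      by decide +kernel⟩
  · exact ⟨![ov 90318, ov 5024896, ov 3539848, ov 1070536], ![ov 1852256, ov 396116, ov 4744776, ov 115766],
      by decide +kernel⟩
  · exact ⟨![ov 15747077, ov 2654580, ov 3698756, ov 416040], ![ov 5129250, ov 237906, ov 7438406, ov 1060490],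
      by decide +kernel⟩

/-- find four vectors `a = 2 · 1_K` (`K` octads meeting `{∞, 0}` evenly) with independent
`a + k a ≡ 4 · 1_{K ∩ C}`; if `a₁ ∉ S` replace the others by `aᵢ` or `aᵢ + a₁`. -/
theorem exists_three (h : k * k = 1) (hk : k ∉ center Co0) (hv : Sht v) (kv : k • v = v)
    {S : leechLattice → Prop} (two : ∀ a b, Ort v a → (32 : ℤ) ∣ sqNorm (a + k • a).1 → Ort v b →
      (32 : ℤ) ∣ sqNorm (b + k • b).1 → S a ∨ S b ∨ S (a + b)) :
    ∃ a b c, (∀ x ∈ [a, b, c], S x ∧ Ort v x ∧ (32 : ℤ) ∣ sqNorm (x + k • x).1) ∧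
      ∀ x ∈ [a, b, c, a + b, a + c, b + c, a + b + c], ¬ Cong (x + k • x) 0 ∧ ¬ Cong (x + k • x) v := by
  obtain ⟨a, z, ha, P⟩ := exists_az h hk hv kv
  have ad : ∀ x y z : leechLattice, Ort (x + y + k • (x + y)) z ↔ (Ort (x + k • x) z ↔ Ort (y + k • y) z) :=
    fun x y z => by rw [← add_ort, smul_add, add_add_add_comm]
  have fin : ∀ x y, Ort v y → ¬ Ort (x + k • x) y → ¬ Cong (x + k • x) 0 ∧ ¬ Cong (x + k • x) v :=
    fun x y h1 h2 => ⟨fun e => h2 ((cong_ort e y).2 (ort_zero y)), fun e => h2 ((cong_ort e y).2 h1)⟩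
  obtain ⟨d, hd⟩ : ∃ d : Fin 4, ∀ i : Fin 3, ∃ b, (S b ∧ Ort v b ∧ (32 : ℤ) ∣ sqNorm (b + k • b).1) ∧
      ∀ j : Fin 3, Ort (b + k • b) (z (d.succAbove j)) ↔ i ≠ j := by
    have P' := fun (d : Fin 4) (i j : Fin 3) => (P (d.succAbove i) (d.succAbove j)).trans
      Fin.succAbove_right_injective.ne_iff
    by_cases e : ∀ i, S (a i)
    · exact ⟨0, fun i => ⟨_, ⟨e _, (ha _).1, (ha _).2.1⟩, P' 0 i⟩⟩
    obtain ⟨d, e⟩ := not_forall.1 e
    refine ⟨d, fun i => ?_⟩
    obtain s | s := (two _ _ (ha d).1 (ha d).2.1 (ha (d.succAbove i)).1 (ha _).2.1).resolve_left e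
    · exact ⟨_, ⟨s, (ha _).1, (ha _).2.1⟩, P' d i⟩
    · refine ⟨_, ⟨s, ort_add.2 (iff_of_true (ha _).1 (ha _).1), nm_add_dvd h (ha _).2.1 (ha _).2.1⟩,
        fun j => ?_⟩
      rw [ad, P', iff_true_left ((P _ _).2 (Fin.succAbove_ne d j).symm)]
  choose b hb Q using hd
  refine ⟨b 0, b 1, b 2, by simp only [List.forall_mem_cons, hb, and_self, List.not_mem_nil,
    false_imp_iff, implies_true], ?_⟩
  simp only [List.mem_cons, List.not_mem_nil, or_false, forall_eq_or_imp, forall_eq]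
  have f := fun x j => fin x _ (ha (d.succAbove j)).2.2
  refine ⟨f _ 0 ?_, f _ 1 ?_, f _ 2 ?_, f _ 0 ?_, f _ 0 ?_, f _ 1 ?_, f _ 0 ?_⟩ <;>
    simp only [ad, Q] <;> decide

/-- `exists_three` with `S = Ort u`; the form `(x, y + k y)` is alternating on the span. -/
theorem exists_two (h : k * k = 1) (hu : Sht u) (hv : Sht v) (huv : dt u v = 16) (kv : k • v = v)
    (ku : k • u = v - u) : ∃ a b, Ort a (b + k • b) ∧ ∀ x ∈ [a, b, a + b], Pp u v x ∧
      (32 : ℤ) ∣ sqNorm (x + k • x).1 ∧ ¬ Cong (x + k • x) 0 ∧ ¬ Cong (x + k • x) v := by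
  have hk : k ∉ center Co0 := fun e => by
    obtain rfl | rfl := MT.mem_center_iff.1 e
    · rw [one_smul] at ku
      have := congrArg (dt u) ku
      rw [dt_sub, dt_self hu, huv] at this
      omega
    · rw [neg1_smul] at kv
      have := congrArg (dt v) kv
      rw [dt_neg, dt_self hv] at this
      omega
  obtain ⟨a, b, c, h1, h2⟩ := exists_three h hk hv kv (S := Ort u) fun a b _ _ _ _ => by
    rw [ort_add]; tauto
  simp only [List.mem_cons, List.not_mem_nil, or_false, forall_eq_or_imp, forall_eq] at h1 h2 ⊢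
  let A := fun x : leechLattice => Ort u x ∧ Ort v x ∧ (32 : ℤ) ∣ sqNorm (x + k • x).1
  have ad : ∀ {x y}, A x → A y → A (x + y) := fun hx hy => ⟨ort_add.2 (iff_of_true hx.1 hy.1),
    ort_add.2 (iff_of_true hx.2.1 hy.2.1), nm_add_dvd h hx.2.2 hy.2.2⟩
  have f : ∀ {x}, A x → ¬ Cong (x + k • x) 0 ∧ ¬ Cong (x + k • x) v → Pp u v x ∧
      (32 : ℤ) ∣ sqNorm (x + k • x).1 ∧ ¬ Cong (x + k • x) 0 ∧ ¬ Cong (x + k • x) v :=
    fun hx e => ⟨⟨hx.2.1, hx.1⟩, hx.2.2, e⟩
  obtain ⟨ha, hb, hc⟩ := h1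
  obtain ⟨n1, n2, n3, n12, n13, n23, n123⟩ := h2
  by_cases e1 : Ort a (b + k • b)
  · exact ⟨a, b, e1, f ha n1, f hb n2, f (ad ha hb) n12⟩
  by_cases e2 : Ort a (c + k • c)
  · exact ⟨a, c, e2, f ha n1, f hc n3, f (ad ha hc) n13⟩
  refine ⟨a, b + c, ?_, f ha n1, f (ad hb hc) n23, f (ad ha (ad hb hc)) (add_assoc a b c ▸ n123)⟩
  rw [smul_add, add_add_add_comm, ort_add]
  exact iff_of_false e1 e2

/-- fixed modulo `v` -/
def Cb (k : Co0) (v x : leechLattice) : Prop := Ort v x ∧ (Cong (k • x) x ∨ Cong (k • x) (x + v))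

/-- test for congruence to zero -/
def Lb.Z (y : GolayPt → ℤ) : Prop :=
  ∀ i < 24, (16 : ℤ) ∣ dotInt y (rowv g1 i) ∧ (16 : ℤ) ∣ dotInt y (rowv g2 i)

theorem Lb.cong_of_Z {a b : leechLattice} (h : Z (a.1 - b.1)) : Cong a b :=
  cong_iff_coe.2 (exists_half_of_dot fun _ hw =>
    le_of_rows (dvdDot 16 _) (fun i hi => (h i hi).1) (fun i hi => (h i hi).2) hw)

theorem Lb.par {S : AddSubgroup leechLattice}
    (two : ∀ a b, Cb k v a → Cb k v b → a ∈ S ∨ b ∈ S ∨ a + b ∈ S) (L : List leechLattice)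
    (h : ∀ r ∈ L, Cb k v r ∧ r ∉ S) : Cb k v L.sum ∧ (L.sum ∈ S ↔ Even L.length) := by
  induction L with
  | nil => exact ⟨⟨ort_comm.1 (ort_zero v), .inl (by simpa using Cong.refl 0)⟩, by simp⟩
  | cons r L ih =>
    rw [List.forall_mem_cons] at h
    obtain ⟨⟨a, b⟩, c⟩ := ih h.2
    obtain ⟨⟨a', b'⟩, c'⟩ := h.1
    rw [List.sum_cons, List.length_cons, Nat.even_add_one, ← c]
    refine ⟨⟨ort_add.2 (iff_of_true a' a), ?_⟩, fun e e' => c' ((add_mem_cancel_right e').1 e),
      fun e => ((two _ _ ⟨a', b'⟩ ⟨a, b⟩).resolve_left c').resolve_left e⟩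
    rw [smul_add]
    obtain b | b := b <;> obtain b' | b' := b'
    exacts [.inl (b'.add b), .inr (cg (b'.add b) 0), .inr (cg (b'.add b) 0), .inl (cg (b'.add b) v)]

/-- vectors supported on a dodecad are orthogonal modulo two -/
theorem Lb.ort_supp {D : Finset GolayPt} (hD : D ∈ Golay.Code) (h12 : D.card = 12) {x y : leechLattice}
    (hx : ∀ i ∉ D, x.1 i = 0) (hy : ∀ i ∉ D, y.1 i = 0) : Ort x y := by
  obtain ⟨n, hn⟩ : ∃ n : leechLattice, ∀ i, n.1 i = if i ∈ D then 2 else 0 :=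
    ⟨⟨_, two_lift_mem ((mem_supports_iff _).1 hD)⟩, fun i => by
      simp only [lift, ind, Pi.smul_apply]
      split_ifs <;> simp_all⟩
  have h1 : ∀ x : leechLattice, (∀ i ∉ D, x.1 i = 0) → Wv x → Ort x n := fun x hx w => by
    have e : dotInt x.1 n.1 = 2 * ∑ i, x.1 i := by
      rw [Finset.mul_sum]
      refine Finset.sum_congr rfl fun i _ => ?_
      rw [hn]
      split_ifs with a
      exacts [mul_comm _ _, by rw [hx i a]; rfl]
    have := w.sum
    rw [Ort, e]
    omega
  have h2 : ∀ x : leechLattice, (∀ i ∉ D, x.1 i = 0) → Wv x ∨ Wv (x + n) := fun x hx => by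
    obtain ⟨m, -, m1, m2, -⟩ := (mem_iff' x.1).1 x.2
    obtain ⟨b, hb⟩ : ∃ b, b ∉ D := by
      by_contra! e
      rw [Finset.eq_univ_of_forall e] at h12
      exact absurd h12 (by decide)
    obtain rfl : m = 0 := by rw [← m1 b, hx b hb]; rfl
    have hT := (support_mem_supports_iff _).2 m2
    have s : support₂ (red fun i => x.1 i / 2) ⊆ D := fun i hi => by_contra fun a => by
      rw [mem_support_red, hx i a] at hi
      exact absurd hi (by decide)
    have c1 := Golay.card_of_mem_code hT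
    have c2 := Golay.card_of_mem_code (Golay.symmDiff_mem_code hD hT)
    have c3 := Finset.card_le_card s
    rw [symmDiff_of_ge s, Finset.card_sdiff_of_subset s] at c2
    by_cases e : (support₂ (red fun i => x.1 i / 2)).card = 0
    · refine .inl fun i => ?_
      have := (mem_support_red (fun i => x.1 i / 2) i).not.1 (Finset.card_eq_zero.1 e ▸ Finset.notMem_empty _)
      have := m1 i
      omega
    · refine .inr fun i => ?_
      have := mem_support_red (fun i => x.1 i / 2) i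
      rw [Finset.eq_of_subset_of_card_le s (by omega)] at this
      have := m1 i
      have := hx i
      rw [AddSubgroup.coe_add, Pi.add_apply, hn]
      split_ifs with a <;> simp only [a, true_iff, not_false_iff, true_imp_iff] at * <;> omega
  have h3 : ∀ x : leechLattice, (∀ i ∉ D, x.1 i = 0) → ∀ i ∉ D, (x + n).1 i = 0 := fun x hx i a => by
    rw [AddSubgroup.coe_add, Pi.add_apply, hn, hx i a, if_neg a, add_zero]
  have h4 : ∀ x y : leechLattice, (∀ i ∉ D, x.1 i = 0) → (∀ i ∉ D, y.1 i = 0) → Wv x → Ort x y :=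
    fun x y hx hy w => (h2 y hy).elim w.ort fun w' => (ort_add.1 (w.ort w')).2 (h1 x hx w)
  refine (h2 x hx).elim (h4 x y hx hy) fun w => (add_ort.1 (h4 _ y (h3 x hx) hy w)).2 ?_
  exact ort_comm.1 ((h2 y hy).elim (h1 y hy) fun w' => (add_ort.1 (h1 _ (h3 y hy) w')).2 (ort_self n))

theorem Lb.ort_dod {C : Golay.Code} (h12 : C.1.card = 12) {x y : leechLattice}
    (hx : Cong (sgn C • x) x) (hy : Cong (sgn C • y) y) : Ort x y := by
  have key : ∀ {x : leechLattice}, Cong (sgn C • x) x → ∃ a b : leechLattice, x = a + b ∧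
      (∀ i ∉ C.1, a.1 i = 0) ∧ ∀ i ∉ C.1ᶜ, b.1 i = 0 := fun {x} ⟨w, e⟩ => by
    have e' : ∀ i, (if i ∈ C.1 then -x.1 i else x.1 i) - x.1 i = 2 * w.1 i := fun i => by
      simpa [sgn_apply] using congrArg (fun v : leechLattice => v.1 i) e
    refine ⟨-w, x + w, by abel, fun i hi => ?_, fun i hi => ?_⟩ <;> have := e' i
    · rw [if_neg hi] at this
      rw [AddSubgroup.coe_neg, Pi.neg_apply]
      omega
    · rw [if_pos (by simpa using hi)] at this
      rw [AddSubgroup.coe_add, Pi.add_apply]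
      omega
  have z : ∀ {a b : leechLattice}, (∀ i ∉ C.1, a.1 i = 0) → (∀ i ∉ C.1ᶜ, b.1 i = 0) → Ort a b :=
    fun {a b} ha hb => by
      rw [Ort, dotInt, Finset.sum_eq_zero fun i _ => ?_]
      · exact dvd_zero _
      by_cases e : i ∈ C.1
      · rw [hb i (by simpa using e), mul_zero]
      · rw [ha i e, zero_mul]
  obtain ⟨a, b, rfl, ha, hb⟩ := key hx
  obtain ⟨c, d, rfl, hc, hd⟩ := key hy
  rw [add_ort, ort_add, ort_add]
  exact iff_of_true (iff_of_true (ort_supp C.2 h12 ha hc) (z ha hd)) (iff_of_true (ort_comm.1 (z hc hb))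
    (ort_supp (Golay.compl_mem_code C.2) (by rw [Finset.card_compl, h12, card_pt]) hb hd))

/-- `exists_std2`. `C` empty or an octad: an octad `K = {∞, l₁, …, l₇}` missing `C` and `0`,
the seven vectors `(4_∞, -4_{l₁})`, `(4_∞, 4_{lᵢ})` have sum `≡ 0`. `C` of size `16`: an octad `K`
with `K \ C = {∞, l}`; each pair `p, q ∈ K ∩ C` lies in an octad `O'` with `O' \ C = {∞, 0}`, and
`2 · 1_{O'}`, `2 · 1_{O'} - (4_p, 4_q)` are points with sum `≡ (4_p, 4_q)`; so `(4_∞, 4_l)` is a sum of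
six points. `C` a dodecad: second alternative with the two octads `O'`, `O' \ C = {∞, 0}`, and
`a = (1^23, -3_p)`, `p ∉ C` (`MR.dod_lat` or `exists_sub_of_perp`). -/
theorem n2_lat (h : k * k = 1) (hv : Sht v) (kv : k • v = v) {S : AddSubgroup leechLattice}
    (h2 : ∀ y, 2 • y ∈ S) (two : ∀ a b, Cb k v a → Cb k v b → a ∈ S ∨ b ∈ S ∨ a + b ∈ S) :
    (∃ r, Sht r ∧ dt r v = 16 ∧ Cb k v r ∧ r ∈ S) ∨
      ((∀ x, Cong (k • x) x → ∃ a, Cong x (a + k • a)) ∧ ∃ r r' a, Sht r ∧ dt r v = 16 ∧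
        Cong (k • r) (r + v) ∧ Sht r' ∧ dt r' v = 16 ∧ Cong (k • r') (r' + v) ∧
          Cong (r + r' + v) (a + k • a) ∧ Ns (a + k • a)) := by
  obtain ⟨l, C, rfl, rfl, m, hm, e⟩ := std4 h hv kv
  have cb : ∀ x, Cb (l * sgn C * l⁻¹) (l • leechU) (l • x) ↔ Cb (sgn C) leechU x := fun x => by
    simp only [Cb, tr, ← smul_add, cong_smul, ort_smul]
  have odd : ∀ L : List leechLattice, Odd L.length → (∀ r ∈ L, Sht r ∧ dt r leechU = 16 ∧
      (sg m r.1 = r.1 ∨ Z (sg m r.1 - (r + leechU).1))) → Z (L.sum.1 - (0 : leechLattice).1) →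
      ∃ r, Sht r ∧ dt r (l • leechU) = 16 ∧ Cb (l * sgn C * l⁻¹) (l • leechU) r ∧ r ∈ S :=
    fun L h1 h3 h4 => by
      have h5 : ∀ r ∈ L, Cb (sgn C) leechU r := fun r hr => ⟨ort_comm.1 (ort_of_dt (h3 r hr).2.1),
        (h3 r hr).2.2.imp (fun e' => cong_of_eq (Subtype.ext ((coe_sgn e r).trans e')))
          fun e' => cong_of_Z (coe_sgn e r ▸ e')⟩
      by_contra! hc
      have := par (S := S.comap (DistribSMul.toAddMonoidHom _ l)) (k := sgn C) (v := leechU)
        (fun a b ha hb => by simpa using two _ _ ((cb a).2 ha) ((cb b).2 hb)) L fun r hr =>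
          ⟨h5 r hr, hc _ ((h3 r hr).1.smul l) ((dt_smul ..).trans (h3 r hr).2.1) ((cb r).2 (h5 r hr))⟩
      exact Nat.not_even_iff_odd.2 h1 (this.2.1
        (mem_of_cong h2 ((cong_of_Z h4).smul l) (by rw [smul_zero]; exact zero_mem _)))
  simp only [List.mem_cons, List.not_mem_nil, or_false] at hm
  have o1 := odd (v44 none (some 11) 4 (-4) rfl rfl ::
    ([13, 15, 16, 17, 21, 22] : List (ZMod 23)).map fun i => v44 none (some i) 4 4 rfl rfl) (by decide)
  rcases hm with rfl | rfl | rfl | rfl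
  · exact .inl (o1 (by unfold dt Z; decide +kernel) (by unfold Z; decide +kernel))
  · exact .inl (o1 (by unfold dt Z; decide +kernel) (by unfold Z; decide +kernel))
  swap
  · exact .inl (odd [v44 none (some 21) 4 4 rfl rfl, ov 9519665, ov 9519665 - v44 (some 4) (some 9) 4 4 rfl rfl,
      ov 8391797, ov 8391797 - v44 (some 10) (some 11) 4 4 rfl rfl, ov 10110017, ov 10110017 - v44 (some 17) (some 20) 4 4 rfl rfl]
      (by decide) (by unfold dt Z; decide +kernel) (by unfold Z; decide +kernel))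
  let o : leechLattice := ⟨_, odd3_mem none⟩
  refine .inr ⟨fun x hx => exists_sub_of_perp h fun y hy => ?_, l • ov 8391797, l • ov 8499969, l • o, ?_⟩
  · obtain ⟨x, rfl⟩ := MulAction.surjective l x
    obtain ⟨y, rfl⟩ := MulAction.surjective l y
    rw [tr, cong_smul] at hx hy
    exact (ort_smul ..).2 (ort_dod (by rw [e]; decide +kernel) hx hy)
  simp only [Sht, Ns, tr, ← smul_add, cong_smul, sqNorm_smul, dt_smul]
  refine ⟨by decide +kernel, by unfold dt; decide +kernel, cong_of_Z ?_, by decide +kernel,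
    by unfold dt; decide +kernel, cong_of_Z ?_, cong_of_Z ?_, ?_⟩ <;>
  simp only [Z, AddSubgroup.coe_add, coe_sgn e] <;> decide +kernel

end CL.BE
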