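import Cfsg.Agent.SPOR.BE.Lb
import Cfsg.Agent.SPOR.GolayRes

/-!
Standard form of an involution of trace `-8` fixing two short vectors.
-/

set_option autoImplicit false
set_option maxRecDepth 100000

namespace CL.BE.Ld

open Cfsg CL.Leech CL.MT CL.MO CL.MP CL.MU Spor Subgroup CL.K CL.StdCo
open CL.Golay (E Code cw O0)
open scoped Pointwise

/-- the complement of the standard octad -/
def C0 : Code := ⟨(E.setOf O0)ᶜ, Golay.compl_mem_code (Golay.mem_octads.1 Golay.O0_mem).1⟩

/-- the complement of the support of `nb 1` -/
def C1 : Code := ⟨E.setOf (cw 4092), Golay.setOf_cw_mem (by norm_num)⟩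

theorem card_C0 : C0.1.card = 16 := by decide +kernel

theorem rA_eq : rA = leechU := by decide +kernel

theorem rB_eq : rB = nb 0 := by decide +kernel

theorem sgn_fix {C : Code} {w : leechLattice} : sgn C • w = w ↔ ∀ i ∈ C.1, w.1 i = 0 := by
  refine ⟨fun h i m => ?_, fun hw => Subtype.ext (funext fun i => ?_)⟩
  · have := congrArg (fun x : leechLattice => x.1 i) h
    simp only [sgn_apply, if_pos m] at this
    omega
  · rw [sgn_apply]
    split_ifs with m
    · simp [hw i m]
    · rfl

theorem sgn_eq_aut {C : Code} {a : ℕ} (h : okA a = true)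
    (h' : ∀ i, ap a (enc (e8 i).1) = enc (if i ∈ C.1 then -e8 i else e8 i : leechLattice).1) :
    RepF (sgn C) (ap a) := by
  have r := rep_aut h
  rw [co_ext_e8 (g := sgn C) (h := aut a) fun i => ?_]
  · exact r
  have e : sgn C • e8 i = if i ∈ C.1 then -e8 i else e8 i := mono_e8 1 C i
  have n : sqNorm (if i ∈ C.1 then -e8 i else e8 i : leechLattice).1 ≤ 80 := by
    rw [← e, sqNorm_smul, sqNorm_e8]; norm_num
  rw [e, (r.smul_eq_iff RepF.one (by rw [sqNorm_e8]; norm_num) n).2 (h' i), one_smul]

/-- a sign change -/
def s0 : ℕ := 0x821084210842108421084210842108401084210842108421084210842108420084210842108421084210842108421004210842108421084210842108421080210842108421084210842108421084010842108421084210842108421084220842108421084210842108421084210042108421084210842108421084210802108421084210842108421084210844108421084210842108421084210842008421084210842108421084210842100421084210842108421084210842108021084210842108421084210842108401084210842108421084210842108420084210842108421084210842108421004210842108421084210842108421080210842108421084210842108421084010842108421084210842108421084220842108421084210842108421084210042108421084210842108421084210882108421084210842108421084210844108421084210842108421084210842208421084210842108421084210842110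

/-- a sign change -/
def s1 : ℕ := 0x821084210842108421084210842108401084210842108421084210842108420084210842108421084210842108421004210842108421084210842108421088210842108421084210842108421084410842108421084210842108421084220842108421084210842108421084210042108421084210842108421084210882108421084210842108421084210840108421084210842108421084210842208421084210842108421084210842100421084210842108421084210842108021084210842108421084210842108401084210842108421084210842108420084210842108421084210842108421004210842108421084210842108421080210842108421084210842108421084010842108421084210842108421084200842108421084210842108421084210042108421084210842108421084210802108421084210842108421084210840108421084210842108421084210842208421084210842108421084210842110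

/-- an automorphism -/
def gX : ℕ := 0x62108421084218842108421084218c4210c42108411044210862108421084210842108421084110441108221084208842108421082218842188421084210842108421084110c411086210842088421084210862188420884210842108610886210842108421084210842108421084210841104431086210842188421084210822188420884210822108421084208842108421084218c421084210842108431044110862108411084210c42108421084210443108411084210442108421084210441108431084210c42108421084210441108411084210c42108421084210c4110842088421084210822088420884210842104421084110442108221084210842104421084110c42108621084210842108211886210842108421084210842104421084310442108621084210862108421084208842108421084218442108611882210842108421084210842108631886210842108421084210862108421084208842108421084208c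

/-- an automorphism -/
def gY : ℕ := 0x62108421084210842108421084318c4110842104420884210842104421084208822108421084210863108421084210442108221084108842108421084208822108421084210821108421084210841108421046210c4210842108421084208841108421084208822108411084210442188421084210c42108421044210822108431884210842108421084208841108421084218862108411084210c42088421084210c421084210841108421042210442108421084210843108421042210c4210842108421044210862108411884210842108421044210862108430884210842108421084310842104621044210842108421882210842108421082310842108421882210842108421086110842108421084208843108421084208862108411084210c4218842108421044210842108420884310842108421882210862108421084210842108421084308462108421084210842108421084118462108421084210842108421084108c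

theorem rep_s0 : RepF (sgn C0) (ap s0) := sgn_eq_aut (by decide +kernel) (by decide +kernel)

theorem rep_s1 : RepF (sgn C1) (ap s1) := sgn_eq_aut (by decide +kernel) (by decide +kernel)

theorem exists_X : ∃ g : Co0, g • leechU = leechU ∧ g • nb 1 = nb 0 ∧ g * sgn C1 * g⁻¹ = sgn C0 := by
  have h := rep_aut (c := gX) (by decide +kernel)
  have e : ∀ {x y : leechLattice}, sqNorm x.1 = 32 → sqNorm y.1 = 32 → ap gX (enc x.1) = enc y.1 →
      aut gX • x = y := fun a b c => by
    simpa using (h.smul_eq_iff RepF.one (by omega) (by omega)).2 c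
  refine ⟨aut gX, e sqNorm_U sqNorm_U (by decide +kernel),
    e (sqNorm_nb 1) (sqNorm_nb 0) (by decide +kernel), ?_⟩
  rw [mul_inv_eq_iff_eq_mul]
  exact ((h.mul rep_s1).eq_iff (rep_s0.mul h)).2 (by decide +kernel)

theorem exists_Y : ∃ g : Co0, g • rA = rA ∧ g • rB = rB ∧ g * sgn C0 = sgn C0 * g ∧
    ¬ Ort (g • e8 none) (nb 1) := by
  have h := rep_aut (c := gY) (by decide +kernel)
  have e : ∀ {x y : leechLattice}, sqNorm x.1 ≤ 80 → sqNorm y.1 ≤ 80 → ap gY (enc x.1) = enc y.1 →
      aut gY • x = y := fun a b c => by
    simpa using (h.smul_eq_iff RepF.one a b).2 c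
  refine ⟨aut gY, e (by decide +kernel) (by decide +kernel) (by decide +kernel),
    e (by decide +kernel) (by decide +kernel) (by decide +kernel),
    ((h.mul rep_s0).eq_iff (rep_s0.mul h)).2 (by decide +kernel), ?_⟩
  rw [e (y := tv {none, some 0, some 1, some 2} rfl) (by decide +kernel) (by decide +kernel)
    (by decide +kernel)]
  decide +kernel

theorem exists_sep {C : Finset GolayPt} (hC : C ∈ Code) (h8 : C.card = 8) (h1 : none ∉ C)
    (h2 : some 0 ∉ C) : ∃ D ∈ Code, none ∈ D ∧ some 0 ∉ D ∧ D ∩ C = ∅ := by
  obtain ⟨k, hk, rfl⟩ := Golay.mem_code_iff.1 hC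
  have h : allLt2 (fun k => force (cw k) fun S => Nat.blt 8 (pc24 S) || Nat.blt (pc24 S) 8 || S.testBit 23 ||
      S.testBit 0 || [4, 74, 400, 3744, 32, 94, 1302, 2084, 3104, 280, 1024, 268, 752, 704, 1060, 2048,
        3076, 840, 2864, 450, 282, 6, 108, 146, 936, 3204, 42, 576, 1172, 3600, 134, 1104, 1162, 18, 288,
        644, 800, 3480, 298, 1740, 2184, 40, 64, 1072].any fun j =>
        Nat.beq (Nat.land (cw j) S) 0) 64 64 = true := by
    decide +kernel
  simp only [allLt2_iff, force_eq, Bool.or_eq_true, Nat.beq_eq, List.any_eq_true, Nat.land_eq,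
    Nat.blt_eq] at h
  rw [Golay.card_setOf] at h8
  rcases h k hk with (((e | e) | e) | e) | ⟨j, hj, e⟩
  · omega
  · omega
  · exact absurd (E.mem_setOf.2 e) h1
  · exact absurd (E.mem_setOf.2 e) h2
  · have : j < 4096 ∧ none ∈ E.setOf (cw j) ∧ some 0 ∉ E.setOf (cw j) := by
      clear e; revert j; decide +kernel
    exact ⟨_, Golay.setOf_cw_mem this.1, this.2.1, this.2.2, by rw [← E.setOf_and, e, E.setOf_zero]⟩

theorem card16 {C : Code} (hk : sgn C ∉ center Co0) (kv : sgn C • leechU = leechU)
    (h1 : ∀ x, Cong (sgn C • x) x → Ort leechU x)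
    (hq : ∀ a : leechLattice, (32 : ℤ) ∣ sqNorm (a + sgn C • a).1) : C.1.card = 16 := by
  have c1 : none ∉ C.1 := fun m => absurd (sgn_fix.1 kv _ m) (by decide)
  have c2 : some 0 ∉ C.1 := fun m => absurd (sgn_fix.1 kv _ m) (by decide)
  rcases Golay.card_of_mem_code C.2 with e | e | e | e | e
  · rw [show C = c0 from Subtype.ext (Finset.card_eq_zero.1 e), sgn_c0] at hk
    exact absurd (one_mem _) hk
  · obtain ⟨D, hD, d1, d2, d3⟩ := exists_sep C.2 e c1 c2
    obtain ⟨x, hx⟩ : ∃ x : leechLattice, ∀ i, x.1 i = if i ∈ D then 2 else 0 :=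
      ⟨⟨_, two_lift_mem ((mem_supports_iff D).1 hD)⟩, fun i => by
        by_cases m : i ∈ D <;> simp [lift, Leech.ind, m]⟩
    have f : sgn C • x = x := sgn_fix.2 fun i m => by
      rw [hx, if_neg fun m' => Finset.notMem_empty i (d3 ▸ Finset.mem_inter.2 ⟨m', m⟩)]
    have := h1 x (f.symm ▸ .refl _)
    rw [← rA_eq, Ort, rA, coe_v44, dot_add_left, dot_single_left, dot_single_left, hx, hx, if_pos d1,
      if_neg d2] at this
    omega
  · have := hq ⟨_, odd3_mem none⟩
    have a : ∀ i, (⟨_, odd3_mem none⟩ + sgn C • ⟨_, odd3_mem none⟩ : leechLattice).1 i ^ 2 =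
        (if i ∈ C.1 then -4 else 0) + 4 + if i = none then 32 else 0 := fun i => by
      rw [AddSubgroup.coe_add, Pi.add_apply, sgn_apply]
      by_cases m : i = none
      · simp [m, c1, odd3]
      · by_cases m' : i ∈ C.1 <;> simp [m, m', odd3]
    simp only [sqNorm, a, Finset.sum_add_distrib, Finset.sum_ite_eq', Finset.mem_univ, if_true,
      Finset.sum_ite_mem, Finset.univ_inter, Finset.sum_const, e, Finset.card_univ, card_pt] at this
    norm_num at this
  · exact e
  · exact absurd (((Finset.card_eq_iff_eq_univ _).1 (e.trans card_pt.symm)).symm ▸ Finset.mem_univ _) c1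

theorem to_C0 {C : Code} (h : C.1.card = 16) (c1 : none ∉ C.1) (c2 : some 0 ∉ C.1) (c3 : some 1 ∉ C.1) :
    ∃ l : Co0, l • leechU = leechU ∧ l • nb 0 = nb 0 ∧ l * sgn C * l⁻¹ = sgn C0 := by
  have h8 : C.1ᶜ.card = 8 := by rw [Finset.card_compl, h, card_pt]
  have : 1 < (C.1ᶜ \ {none, some 0, some 1}).card := by
    have := Finset.le_card_sdiff ({none, some 0, some 1} : Finset GolayPt) C.1ᶜ
    have := Finset.card_le_three (a := (none : GolayPt)) (b := some 0) (c := some 1)
    omega
  obtain ⟨a, ha, b, hb, ab⟩ := Finset.one_lt_card.1 this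
  simp only [Finset.mem_sdiff, Finset.mem_insert, Finset.mem_singleton, not_or] at ha hb
  obtain ⟨σ, hσ, e⟩ := Golay.exists_map_tuple le_rfl ![none, some 0, some 1, a, b]
    ![none, some 0, some 1, some 2, some 3] (by
      intro i j
      fin_cases i <;> fin_cases j <;> simp [ha.2, hb.2, ab, ab.symm, eq_comm (b := a), eq_comm (b := b),
        (by decide : (0 : ZMod 23) ≠ 1), (by decide : (1 : ZMod 23) ≠ 0)])
    (by decide)
  have e0 : σ none = none := e 0
  have e1 : σ (some 0) = some 0 := e 1
  have e2 : σ (some 1) = some 1 := e 2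
  have o : σ • C.1ᶜ = E.setOf O0 := by
    refine Golay.octad_eq_of_le_card_inter ((Golay.smul_mem_octads hσ).2 (Golay.mem_octads.2
      ⟨Golay.compl_mem_code C.2, h8⟩)) Golay.O0_mem (le_trans (b := ({none, some 0, some 1, some 2,
        some 3} : Finset GolayPt).card) (by decide) (Finset.card_le_card ?_))
    refine Finset.subset_inter ?_ (by decide +kernel)
    simp only [Finset.insert_subset_iff, Finset.singleton_subset_iff]
    exact ⟨e0 ▸ Finset.smul_mem_smul_finset (Finset.mem_compl.2 c1),
      e1 ▸ Finset.smul_mem_smul_finset (Finset.mem_compl.2 c2),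
      e2 ▸ Finset.smul_mem_smul_finset (Finset.mem_compl.2 c3),
      (show σ a = some 2 from e 3) ▸ Finset.smul_mem_smul_finset ha.1,
      (show σ b = some 3 from e 4) ▸ Finset.smul_mem_smul_finset hb.1⟩
  have p : ∀ (j : GolayPt) (h), σ j = j → permHom ⟨σ, hσ⟩ • tv {none, j} h = tv {none, j} h := fun j h e =>
    perm_tv hσ (Golay.smul_eq_self_of_fix (by simp [e0, e])) h h
  refine ⟨permHom ⟨σ, hσ⟩, U_eq ▸ p _ _ e1,
    (show nb 0 = tv {none, some 1} (by decide) by decide +kernel) ▸ p _ _ e2, ?_⟩
  refine (conj_sgn ⟨σ, hσ⟩ _ C).trans (congrArg sgn (Subtype.ext ?_))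
  show σ • C.1 = (E.setOf O0)ᶜ
  rw [← o, Golay.smul_finset_compl', compl_compl]

theorem std {k : Co0} {u v : leechLattice} (h : k * k = 1) (hk : k ∉ center Co0) (hu : Sht u) (hv : Sht v)
    (huv : dt u v = 16) (kv : k • v = v) (ku : k • u = u) (h1 : ∀ x, Cong (k • x) x → Ort v x)
    (hq : ∀ a : leechLattice, (32 : ℤ) ∣ sqNorm (a + k • a).1) :
    ∃ l : Co0, l • v = rA ∧ l • u = rB ∧ l * k * l⁻¹ = sgn C0 := by
  obtain ⟨l, C, lv, lk⟩ := exists_std2 h hv kv
  have c16 : C.1.card = 16 := by
    refine card16 (lk ▸ fun m => hk ?_) (by rw [← lk, ← lv]; simp [mul_smul, kv]) (fun x hx => ?_) fun a => ?_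
    · simpa [mul_assoc] using (inferInstance : (center Co0).Normal).conj_mem _ m l⁻¹
    · obtain ⟨x, rfl⟩ := MulAction.surjective l x
      rw [← lv, ort_smul]
      exact h1 x (by simpa [← lk, mul_smul] using hx.smul l⁻¹)
    · obtain ⟨a, rfl⟩ := MulAction.surjective l a
      rw [← lk, mul_smul, mul_smul, inv_smul_smul, ← smul_add, sqNorm_smul]
      exact hq a
  obtain ⟨i, hi⟩ := nv_tight.1 (l • u) (hu.smul l)
  have d : nvD i = 16 := by
    rw [← (inv_of_mem_orbit hi).2.1, ← huv, dt_comm, ← dt_smul l v u, lv]; rfl
  obtain ⟨⟨n, hn, nU⟩, e⟩ := MulAction.mem_orbit_symm.1 hi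
  obtain ⟨σ, c, rfl⟩ := exists_mono_of_mem_NN hn
  change mono σ c • l • u = nv i at e
  change mono σ c • leechU = leechU at nU
  have c16' : (cs σ C).1.card = 16 := (Finset.card_smul_finset _ _).trans c16
  have k' : mono σ c * l * k * (mono σ c * l)⁻¹ = sgn (cs σ C) := by
    rw [← conj_sgn σ c, ← lk]; group
  have fv : sgn (cs σ C) • leechU = leechU := by
    rw [← k', ← nU, ← lv]; simp [mul_smul, kv]
  have fu : sgn (cs σ C) • nv i = nv i := by
    rw [← k', ← e]; simp [mul_smul, ku]
  have fin : ∀ g : Co0, g • leechU = leechU → g • nv i = nb 0 → g * sgn (cs σ C) * g⁻¹ = sgn C0 →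
      ∃ l : Co0, l • v = rA ∧ l • u = rB ∧ l * k * l⁻¹ = sgn C0 := fun g g1 g2 g3 =>
    ⟨g * (mono σ c * l), by rw [mul_smul, mul_smul, lv, nU, g1, rA_eq],
      by rw [mul_smul, mul_smul, e, g2, rB_eq], by rw [← g3, ← k']; group⟩
  generalize cs σ C = C' at c16' fv fu fin
  rcases (by decide : ∀ i, nvD i = 16 → i = 0 ∨ i = 1 ∨ i = 2) i d with rfl | rfl | rfl
  · obtain ⟨g, g1, g2, g3⟩ := to_C0 c16' (fun m => absurd (sgn_fix.1 fv _ m) (by decide))
      (fun m => absurd (sgn_fix.1 fv _ m) (by decide))
      (fun m => absurd (sgn_fix.1 fu _ m) (by decide +kernel))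
    exact fin g g1 g2 g3
  · obtain ⟨g, g1, g2, g3⟩ := exists_X
    refine fin g g1 g2 ((show C' = C1 from Subtype.ext ?_) ▸ g3)
    refine Finset.eq_of_subset_of_card_le (fun i m => ?_) (by rw [c16']; decide +kernel)
    exact (by decide +kernel : ∀ i, (nv 1).1 i = 0 → i ∈ C1.1) i (sgn_fix.1 fu _ m)
  · obtain ⟨i, m⟩ := Finset.card_pos.1 (c16' ▸ by norm_num : 0 < C'.1.card)
    exact absurd (sgn_fix.1 fu _ m) ((by decide +kernel : ∀ i, (nv 2).1 i ≠ 0) i)

end CL.BE.Ld
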